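import Cfsg.Agent.Transfer.Basic

/-!
The Frobenius normal p-complement criterion.
-/

set_option autoImplicit false

namespace Cfsg.Agent.Transfer

open Subgroup
open scoped commutatorElement

variable {G : Type*} [Group G] [Finite G] {p : ℕ} [hp : Fact p.Prime]

/-- Every element of order prime to `p` normalizing a `p`-subgroup centralizes it. -/
def FrobCond (p : ℕ) (G : Type*) [Group G] : Prop :=
  ∀ Q : Subgroup G, IsPGroup p Q → ∀ g ∈ normalizer (Q : Set G),
    Nat.Coprime (orderOf g) p → g ∈ centralizer (Q : Set G)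

omit [Finite G] hp in
theorem frobCond_subgroup (h : FrobCond p G) (H : Subgroup G) : FrobCond p H := by
  intro Q hQ g hg hc
  have hg' : (g : G) ∈ normalizer ((Q.map H.subtype : Subgroup G) : Set G) := by
    rw [mem_normalizer_iff] at hg ⊢
    intro r
    constructor
    · rintro ⟨r', hr', rfl⟩
      exact ⟨g * r' * g⁻¹, (hg r').mp hr', rfl⟩
    · rintro ⟨r', hr', e⟩
      refine ⟨g⁻¹ * r' * g, (hg _).mpr (by simpa [mul_assoc] using hr'), ?_⟩
      simp only [coe_subtype] at e
      simp [e, mul_assoc]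
  have := h (Q.map H.subtype) (hQ.map _) g hg' (by simpa using hc)
  rw [mem_centralizer_iff] at this ⊢
  intro q hq
  exact Subtype.ext (this q ⟨q, hq, rfl⟩)

theorem exists_sylow_normalizer_le (D : Subgroup G) {P : Subgroup G} (hP : IsPGroup p P) :
    ∃ R : Sylow p ↥(normalizer (D : Set G)),
      P ⊓ normalizer (D : Set G) ≤ (R : Subgroup _).map (normalizer (D : Set G)).subtype := by
  have : IsPGroup p (P.subgroupOf (normalizer (D : Set G))) := hP.comap_subtype
  obtain ⟨R, hR⟩ := this.exists_le_sylow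
  exact ⟨R, fun x hx => ⟨⟨x, hx.2⟩, hR hx.1, rfl⟩⟩

omit hp in
theorem lt_inf_normalizer {P D : Subgroup G} [Fact p.Prime] (hP : IsPGroup p P) (hDP : D < P) :
    D < P ⊓ normalizer (D : Set G) := by
  haveI : Group.IsNilpotent P := hP.isNilpotent
  refine lt_of_le_of_ne (le_inf hDP.le le_normalizer) ?_
  intro e
  have hlt : D.subgroupOf P < ⊤ := lt_top_iff_ne_top.mpr fun h =>
    hDP.not_ge (subgroupOf_eq_top.mp h)
  obtain ⟨⟨g, hgP⟩, hgN, hgD⟩ :=
    SetLike.exists_of_lt (normalizerCondition_of_isNilpotent (D.subgroupOf P) hlt)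
  apply hgD
  show g ∈ D
  rw [e]
  refine ⟨hgP, ?_⟩
  show g ∈ normalizer (D : Set G)
  rw [mem_normalizer_iff] at hgN ⊢
  intro r
  constructor
  · intro hr
    exact (hgN ⟨r, hDP.le hr⟩).mp hr
  · intro hr
    have hrP : r ∈ P := by
      have := P.mul_mem (P.mul_mem (P.inv_mem hgP) (hDP.le hr)) hgP
      simpa [mul_assoc] using this
    exact (hgN ⟨r, hrP⟩).mpr hr

/-- Under the Frobenius condition two Sylow subgroups are conjugate by an element centralizing
their intersection. -/
theorem exists_smul_mem_centralizer (h : FrobCond p G) :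
    ∀ (k : ℕ) (P Q : Sylow p G),
      Nat.card G - Nat.card ↥((P : Subgroup G) ⊓ (Q : Subgroup G)) = k →
      ∃ c ∈ centralizer (((P : Subgroup G) ⊓ (Q : Subgroup G) : Subgroup G) : Set G),
        c • P = Q := by
  intro k
  induction k using Nat.strong_induction_on with
  | h k IH =>
    intro P Q hk
    set D := (P : Subgroup G) ⊓ (Q : Subgroup G) with hD
    by_cases hPQ : P = Q
    · subst hPQ
      exact ⟨1, one_mem _, one_smul _ _⟩
    have hDP : D < (P : Subgroup G) := by
      refine lt_of_le_of_ne inf_le_left fun e => hPQ ?_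
      have hle : (P : Subgroup G) ≤ Q := e ▸ inf_le_right
      exact (Sylow.ext (eq_of_le_of_card_ge hle
        (by rw [P.card_eq_multiplicity, Q.card_eq_multiplicity])))
    have hDQ : D < (Q : Subgroup G) := by
      refine lt_of_le_of_ne inf_le_right fun e => hPQ ?_
      have hle : (Q : Subgroup G) ≤ P := e ▸ inf_le_left
      exact (Sylow.ext (eq_of_le_of_card_ge hle
        (by rw [P.card_eq_multiplicity, Q.card_eq_multiplicity]))).symm
    set N := normalizer (D : Set G) with hN
    obtain ⟨R, hR⟩ := exists_sylow_normalizer_le D P.isPGroup'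
    obtain ⟨S, hS⟩ := exists_sylow_normalizer_le D Q.isPGroup'
    obtain ⟨n, hn⟩ := MulAction.exists_smul_eq ↥N R S
    have hDp : IsPGroup p D := P.isPGroup'.to_le inf_le_left
    have hres : pResidual p ↥N ≤ (centralizer (D : Set G)).subgroupOf N :=
      (closure_le _).mpr fun x hx => h D hDp x x.2 (by simpa using hx)
    have hn' : n ∈ pResidual p ↥N ⊔ (R : Subgroup ↥N) := by
      rw [pResidual_sup_sylow]; exact mem_top _
    obtain ⟨c, hc, r, hr, hcr⟩ := mem_sup_of_normal_left.mp hn'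
    have hcS : c • R = S := by
      rw [← hn, ← hcr, mul_smul, (Sylow.smul_eq_iff_mem_normalizer).mpr (le_normalizer hr)]
    have hcC : (c : G) ∈ centralizer (D : Set G) := hres hc
    have hRp : IsPGroup p ((R : Subgroup ↥N).map N.subtype) := R.isPGroup'.map _
    obtain ⟨P₁, hP₁⟩ := hRp.exists_le_sylow
    have h1 : D < (P : Subgroup G) ⊓ (P₁ : Subgroup G) :=
      lt_of_lt_of_le (lt_inf_normalizer (p := p) P.isPGroup' hDP)
        (le_inf inf_le_left (hR.trans hP₁))
    have h2 : D < (((c : G) • P₁ : Sylow p G) : Subgroup G) ⊓ (Q : Subgroup G) := by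
      refine lt_of_lt_of_le (lt_inf_normalizer (p := p) Q.isPGroup' hDQ) (le_inf ?_ inf_le_left)
      intro x hx
      obtain ⟨s, hs, rfl⟩ := hS hx
      rw [← hcS] at hs
      obtain ⟨r', hr', rfl⟩ := hs
      exact ⟨r', hP₁ ⟨r', hr', rfl⟩, by simp⟩
    have hlt : ∀ E : Subgroup G, D < E → Nat.card G - Nat.card E < k := by
      intro E hE
      have h3 : Nat.card D < Nat.card E := by
        refine lt_of_le_of_ne (Nat.le_of_dvd Nat.card_pos (card_dvd_of_le hE.le)) fun e => ?_
        exact hE.ne (eq_of_le_of_card_ge hE.le e.ge)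
      have h4 : Nat.card E ≤ Nat.card G := Nat.le_of_dvd Nat.card_pos (card_subgroup_dvd_card E)
      omega
    obtain ⟨a, ha, haP⟩ := IH _ (hlt _ h1) P P₁ rfl
    obtain ⟨b, hb, hbQ⟩ := IH _ (hlt _ h2) _ Q rfl
    refine ⟨b * c * a, ?_, ?_⟩
    · refine mul_mem (mul_mem (centralizer_le ?_ hb) hcC) (centralizer_le ?_ ha)
      · exact h2.le
      · exact h1.le
    · rw [mul_smul, mul_smul, haP, hbQ]

/-- Under the Frobenius condition a Sylow subgroup controls its own fusion. -/
theorem control_of_frobCond (h : FrobCond p G) (P : Sylow p G) :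
    ∀ x ∈ (P : Subgroup G), ∀ g : G, g * x * g⁻¹ ∈ (P : Subgroup G) →
      ∃ z ∈ (P : Subgroup G), z * x * z⁻¹ = g * x * g⁻¹ := by
  intro x hx g hg
  obtain ⟨c, hc, hcP⟩ := exists_smul_mem_centralizer h _ P (g • P) rfl
  have hy : g * x * g⁻¹ ∈ ((g • P : Sylow p G) : Subgroup G) := ⟨x, hx, by simp⟩
  have hcy := mem_centralizer_iff.mp hc _ ⟨hg, hy⟩
  have hnN : c⁻¹ * g ∈ normalizer ((P : Subgroup G) : Set G) := by
    rw [Sylow.coe_coe, ← Sylow.smul_eq_iff_mem_normalizer, mul_smul, ← hcP, inv_smul_smul]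
  set N := normalizer ((P : Subgroup G) : Set G) with hN
  have hres : pResidual p ↥N ≤ (centralizer ((P : Subgroup G) : Set G)).subgroupOf N :=
    (closure_le _).mpr fun u hu => h P P.isPGroup' u u.2 (by simpa using hu)
  have hn' : (⟨c⁻¹ * g, hnN⟩ : ↥N) ∈ pResidual p ↥N ⊔ (P.subtype le_normalizer : Subgroup ↥N) := by
    rw [pResidual_sup_sylow]; exact mem_top _
  obtain ⟨u, hu, z, hz, huz⟩ := mem_sup_of_normal_left.mp hn'
  refine ⟨z, hz, ?_⟩
  have hu' : (u : G) ∈ centralizer ((P : Subgroup G) : Set G) := hres hu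
  have hzx : (z : G) * x * (z : G)⁻¹ ∈ (P : Subgroup G) :=
    mul_mem (mul_mem hz hx) (inv_mem hz)
  have e1 := mem_centralizer_iff.mp hu' _ hzx
  have e2 : (u : G) * z = c⁻¹ * g := congrArg Subtype.val huz
  have e3 : c⁻¹ * (g * x * g⁻¹) * c = g * x * g⁻¹ := by
    rw [mul_assoc, hcy, ← mul_assoc, inv_mul_cancel, one_mul]
  calc (z : G) * x * (z : G)⁻¹ = ((z : G) * x * (z : G)⁻¹) * u * (u : G)⁻¹ := by group
    _ = (u : G) * ((z : G) * x * (z : G)⁻¹) * (u : G)⁻¹ := by rw [e1]
    _ = ((u : G) * z) * x * ((u : G) * z)⁻¹ := by group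
    _ = c⁻¹ * (g * x * g⁻¹) * c := by rw [e2]; group
    _ = g * x * g⁻¹ := e3

universe u

/-- The Frobenius criterion. -/
theorem hasNPC_of_frobCond {G : Type u} [Group G] [Finite G] (h : FrobCond p G) :
    HasNormalPComplement p G := by
  suffices ∀ (n : ℕ) (G : Type u) [Group G] [Finite G], Nat.card G = n → FrobCond p G →
      HasNormalPComplement p G from this _ G rfl h
  intro n
  induction n using Nat.strong_induction_on with
  | h n IH =>
    intro G _ _ hn h
    by_cases hpd : p ∣ Nat.card G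
    swap
    · exact hasNPC_of_not_dvd hpd
    let P : Sylow p G := Classical.arbitrary _
    have hfoc := focal_eq_commutator_of_control _ (control_of_frobCond h P)
    haveI : Nontrivial ↥(P : Subgroup G) := by
      rw [nontrivial_iff_ne_bot]
      exact P.ne_bot_of_dvd_card hpd
    haveI : Group.IsNilpotent ↥(P : Subgroup G) := P.isPGroup'.isNilpotent
    have hlt := Group.IsSolvable.commutator_lt_top_of_nontrivial ↥(P : Subgroup G)
    have hK : P.transferFocal.ker ≠ ⊤ := by
      intro e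
      have h1 := ker_transferFocal_inf_eq_focalSubgroup P
      rw [e, top_inf_eq, hfoc, ← map_subtype_commutator] at h1
      refine hlt.ne (map_injective (P : Subgroup G).subtype_injective ?_)
      rw [← MonoidHom.range_eq_map, range_subtype]
      exact h1.symm
    refine hasNPC_of_normal_index inferInstance (ker_transferFocal_index_pow P)
      (IH _ ?_ _ rfl (frobCond_subgroup h _))
    rw [← hn]
    exact lt_of_le_of_ne (Nat.le_of_dvd Nat.card_pos (card_subgroup_dvd_card _))
      fun e => hK ((card_eq_iff_eq_top _).mp e)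

/-- In a group with a normal `p`-complement, `p'`-elements normalizing a `p`-subgroup centralize
it. -/
theorem frobCond_of_local
    (h : ∀ Q : Subgroup G, IsPGroup p Q → Q ≠ ⊥ →
      HasNormalPComplement p ↥(normalizer (Q : Set G))) : FrobCond p G := by
  intro Q hQ g hg hc
  rw [mem_centralizer_iff]
  intro q hq
  by_cases hb : Q = ⊥
  · rw [hb] at hq
    rw [mem_bot.mp hq, one_mul, mul_one]
  obtain ⟨K, hK, hKc, hKi⟩ := hasNPC_iff.mp (h Q hQ hb)
  have hgK : (⟨g, hg⟩ : ↥(normalizer (Q : Set G))) ∈ K :=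
    (mem_complement_iff hK hKc hKi _).mpr (by simpa [← orderOf_coe] using hc)
  have hqN : q ∈ normalizer (Q : Set G) := le_normalizer hq
  have h1 : (⁅(⟨g, hg⟩ : ↥(normalizer (Q : Set G))), ⟨q, hqN⟩⁆) ∈ K := by
    rw [commutatorElement_def, mul_assoc, mul_assoc]
    exact mul_mem hgK (by simpa [mul_assoc] using hK.conj_mem _ (inv_mem hgK) ⟨q, hqN⟩)
  have h2 : ⁅g, q⁆ ∈ Q := by
    rw [commutatorElement_def]
    exact mul_mem ((mem_normalizer_iff.mp hg q).mp hq) (inv_mem hq)
  obtain ⟨m, hm⟩ := IsPGroup.iff_orderOf.mp hQ ⟨_, h2⟩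
  rw [← orderOf_coe] at hm
  have h3 := (mem_complement_iff hK hKc hKi _).mp h1
  rw [← orderOf_coe] at h3
  have h4 : orderOf ⁅g, q⁆ = 1 :=
    Nat.eq_one_of_dvd_coprimes (Nat.Coprime.pow_right m h3) dvd_rfl
      (dvd_of_eq hm)
  exact (commutatorElement_eq_one_iff_mul_comm.mp (orderOf_eq_one_iff.mp h4)).symm

theorem frobCond_of_hasNPC (h : HasNormalPComplement p G) : FrobCond p G :=
  frobCond_of_local fun _ _ _ => hasNPC_subgroup h _

theorem hasNPC_iff_frobCond : HasNormalPComplement p G ↔ FrobCond p G :=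
  ⟨frobCond_of_hasNPC, hasNPC_of_frobCond⟩

theorem hasNPC_iff_local : HasNormalPComplement p G ↔
    ∀ Q : Subgroup G, IsPGroup p Q → Q ≠ ⊥ →
      HasNormalPComplement p ↥(normalizer (Q : Set G)) :=
  ⟨fun h _ _ _ => hasNPC_subgroup h _, fun h => hasNPC_of_frobCond (frobCond_of_local h)⟩

/-- The condition may be checked on the subgroups of one Sylow subgroup. -/
theorem frobCond_of_sylow (P : Sylow p G)
    (h : ∀ Q : Subgroup G, Q ≤ (P : Subgroup G) → ∀ g ∈ normalizer (Q : Set G),
      Nat.Coprime (orderOf g) p → g ∈ centralizer (Q : Set G)) : FrobCond p G := by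
  intro Q hQ g hg hc
  obtain ⟨P', hP'⟩ := hQ.exists_le_sylow
  obtain ⟨a, ha⟩ := MulAction.exists_smul_eq G P' P
  set Q' := Q.map (MulAut.conj a).toMonoidHom with hQ'
  have hle : Q' ≤ (P : Subgroup G) := by
    rintro x ⟨q, hq, rfl⟩
    rw [← ha]
    exact ⟨q, hP' hq, by simp⟩
  have hg' : a * g * a⁻¹ ∈ normalizer (Q' : Set G) := by
    have e : ∀ r, r ∈ Q' ↔ a⁻¹ * r * a ∈ Q := by
      intro r
      constructor
      · rintro ⟨q, hq, rfl⟩
        simpa [mul_assoc] using hq
      · exact fun hr => ⟨_, hr, by simp [mul_assoc]⟩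
    rw [mem_normalizer_iff] at hg ⊢
    intro r
    rw [e, e, hg (a⁻¹ * r * a)]
    simp [mul_assoc]
  have hc' : Nat.Coprime (orderOf (a * g * a⁻¹)) p := by
    rw [← MulAut.conj_apply, MulEquiv.orderOf_eq]; exact hc
  have := h Q' hle _ hg' hc'
  rw [mem_centralizer_iff] at this ⊢
  intro q hq
  have e := this (a * q * a⁻¹) ⟨q, hq, by simp⟩
  exact mul_left_cancel (mul_right_cancel (a := a * (q * g)) (b := a⁻¹) (c := a * (g * q))
    (by simpa [mul_assoc] using e))

end Cfsg.Agent.Transfer
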