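import Cfsg.Agent.Transfer.Basic

/-!
Fusion in abelian Sylow subgroups and criteria for normal p-complements.
-/

set_option autoImplicit false

namespace Cfsg.Agent.Transfer

open Subgroup
open scoped commutatorElement

variable {G : Type*} [Group G] [Finite G] {p : ℕ} [hp : Fact p.Prime]

omit [Finite G] hp in
/-- If `N` controls fusion of the elements of `H`, the focal subgroup of `H` lies in `⁅H, N⁆`. -/
theorem focal_le_of_control (H N : Subgroup G)
    (h : ∀ x ∈ H, ∀ g : G, g * x * g⁻¹ ∈ H → ∃ z ∈ N, z * x * z⁻¹ = g * x * g⁻¹) :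
    focalSubgroup H ≤ ⁅H, N⁆ := by
  rw [focalSubgroup_def, closure_le]
  rintro _ ⟨hm, x, hx, u, rfl⟩
  have hu : u * x⁻¹ * u⁻¹ ∈ H := by
    have := H.mul_mem (H.inv_mem hx) hm
    simpa [commutatorElement_def, mul_assoc] using this
  obtain ⟨z, hz, e⟩ := h x⁻¹ (H.inv_mem hx) u hu
  have : ⁅x, u⁆ = ⁅x, z⁆ := by
    rw [commutatorElement_def, commutatorElement_def,
      show x * u * x⁻¹ * u⁻¹ = x * (u * x⁻¹ * u⁻¹) by group, ← e]
    group
  rw [this]
  exact commutator_mem_commutator hx hz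

/-- Burnside: the normalizer controls fusion in an abelian Sylow subgroup. -/
theorem control_of_abelian (P : Sylow p G) (hP : IsMulCommutative P) :
    ∀ x ∈ (P : Subgroup G), ∀ g : G, g * x * g⁻¹ ∈ (P : Subgroup G) →
      ∃ z ∈ normalizer ((P : Subgroup G) : Set G), z * x * z⁻¹ = g * x * g⁻¹ := by
  intro x hx g hg
  haveI : IsMulCommutative ↥(P : Subgroup G) := hP
  have hg' : (g⁻¹)⁻¹ * x * g⁻¹ ∈ P := by rw [inv_inv]; exact hg
  obtain ⟨n, hn, e⟩ := Sylow.conj_eq_normalizer_conj_of_mem P x g⁻¹ hx hg'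
  refine ⟨n⁻¹, inv_mem ?_, ?_⟩
  · simpa [Sylow.coe_coe] using hn
  · simpa using e.symm

/-- Prime-power parts: a Sylow subgroup of `N(P)` is `P` itself. -/
theorem normalizer_le_centralizer_of (P : Sylow p G) (hP : IsMulCommutative P)
    (h : ∀ q : ℕ, q.Prime → q ≠ p → ∀ g ∈ normalizer ((P : Subgroup G) : Set G),
      (∃ k, orderOf g = q ^ k) → g ∈ centralizer ((P : Subgroup G) : Set G)) :
    normalizer ((P : Subgroup G) : Set G) ≤ centralizer ((P : Subgroup G) : Set G) := by
  intro g hg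
  refine mem_of_prime_parts _ g fun y hy hpp => ?_
  have hyN : y ∈ normalizer ((P : Subgroup G) : Set G) := (zpowers_le.mpr hg) hy
  obtain ⟨q, k, hq, -, hqk⟩ := hpp
  by_cases hqp : q = p
  · subst hqp
    have hz : IsPGroup q (zpowers y) := IsPGroup.of_card (by rw [Nat.card_zpowers, hqk])
    have hle : zpowers y ≤ (P : Subgroup G) := by
      have h1 := hz.inf_normalizer_sylow P
      have hyN' : y ∈ normalizer (P : Set G) := by simpa [Sylow.coe_coe] using hyN
      rw [inf_eq_left.mpr (zpowers_le.mpr hyN')] at h1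
      exact inf_eq_left.mp h1.symm
    haveI : IsMulCommutative ↥(P : Subgroup G) := hP
    exact le_centralizer _ (hle (mem_zpowers y))
  · exact h q (Nat.prime_iff.mpr hq) hqp y hyN ⟨k, hqk.symm⟩

/-- If no prime other than `p` dividing the group order divides some `|P| - d`, with `d` a proper
divisor of `|P|`, then an abelian `P` gives a normal `p`-complement. -/
theorem hasNPC_of_divisors (P : Sylow p G) (hP : IsMulCommutative P)
    (h : ∀ q : ℕ, q.Prime → q ∣ Nat.card G → q ≠ p → ∀ d : ℕ, d ∣ Nat.card P →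
      d < Nat.card P → ¬ q ∣ Nat.card P - d) :
    HasNormalPComplement p G := by
  refine hasNPC_of_burnside P (normalizer_le_centralizer_of P hP ?_)
  intro q hq hqp g hg hgq
  by_cases hg1 : g = 1
  · subst hg1; exact one_mem _
  haveI : Fact q.Prime := ⟨hq⟩
  obtain ⟨k, hk⟩ := hgq
  have hqG : q ∣ Nat.card G := by
    have : k ≠ 0 := fun e => hg1 (orderOf_eq_one_iff.mp (by rw [hk, e, pow_zero]))
    exact ((dvd_pow_self q this).trans (dvd_of_eq hk.symm)).trans (orderOf_dvd_natCard g)
  have hz : IsPGroup q (zpowers g) := IsPGroup.of_card (by rw [Nat.card_zpowers, hk])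
  set Z := zpowers g with hZ
  letI act : MulAction ↥Z ↥(P : Subgroup G) :=
    { smul := fun z x => ⟨(z : G) * x * (z : G)⁻¹,
        (mem_normalizer_iff.mp ((zpowers_le.mpr hg) z.2) x).mp x.2⟩
      one_smul := fun x => Subtype.ext (show ((1 : ↥Z) : G) * x * ((1 : ↥Z) : G)⁻¹ = x by simp)
      mul_smul := fun a b x => Subtype.ext (show ((a * b : ↥Z) : G) * x * ((a * b : ↥Z) : G)⁻¹ =
          (a : G) * ((b : G) * x * (b : G)⁻¹) * (a : G)⁻¹ by simp [mul_assoc]) }
  have hmod := hz.card_modEq_card_fixedPoints ↥(P : Subgroup G)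
  let C : Subgroup ↥(P : Subgroup G) := (centralizer (Z : Set G)).subgroupOf (P : Subgroup G)
  have hC : Nat.card (MulAction.fixedPoints ↥Z ↥(P : Subgroup G)) = Nat.card C := by
    refine Nat.card_congr (Equiv.setCongr ?_)
    ext x
    constructor
    · intro hx
      exact mem_centralizer_iff.mpr fun z hz' => mul_inv_eq_iff_eq_mul.mp
        (congrArg Subtype.val (hx ⟨z, hz'⟩))
    · intro hx z
      exact Subtype.ext (mul_inv_eq_iff_eq_mul.mpr (mem_centralizer_iff.mp hx z z.2))
  rw [hC] at hmod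
  have hd := card_subgroup_dvd_card C
  have hle : Nat.card C ≤ Nat.card P := Nat.le_of_dvd Nat.card_pos hd
  rcases hle.lt_or_eq with hlt | heq
  · exact absurd ((Nat.modEq_iff_dvd' hle).mp hmod.symm) (h q hq hqG hqp _ hd hlt)
  · have hmem := (card_eq_iff_eq_top C).mp heq
    refine mem_centralizer_iff.mpr fun x hx => ?_
    have h1 : (⟨x, hx⟩ : ↥(P : Subgroup G)) ∈ C := hmem ▸ mem_top _
    exact (mem_centralizer_iff.mp h1 g (mem_zpowers g)).symm

end Cfsg.Agent.Transfer
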