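import Mathlib

/-!
The Baer–Suzuki theorem.
-/

set_option autoImplicit false

namespace Cfsg.Agent.BaerSuzuki

open Subgroup

variable {G : Type*} [Group G] [Finite G] {p : ℕ} [hp : Fact p.Prime]

omit [Finite G] hp in
theorem mem_normalizer_closure {E : Set G} {a : G} (h : ∀ e, e ∈ E ↔ a * e * a⁻¹ ∈ E) :
    a ∈ normalizer ((closure E : Subgroup G) : Set G) := by
  have key : ∀ b : G, (∀ e ∈ E, b * e * b⁻¹ ∈ E) → ∀ u ∈ closure E, b * u * b⁻¹ ∈ closure E := by
    intro b hb u hu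
    have hle : (closure E).map (MulAut.conj b).toMonoidHom ≤ closure E := by
      rw [MonoidHom.map_closure]
      exact closure_mono (by rintro _ ⟨e, he, rfl⟩; exact hb e he)
    exact hle (mem_map_of_mem _ hu)
  refine mem_normalizer_iff.mpr fun u => ⟨key a (fun e he => (h e).mp he) u, fun hu => ?_⟩
  have := key a⁻¹ (fun e he => (h _).mpr (by simpa [mul_assoc] using he)) _ hu
  simpa [mul_assoc] using this

/-- The stabilizer of a set under conjugation. -/
def setStab (E : Set G) : Subgroup G where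
  carrier := {g | ∀ e, e ∈ E ↔ g * e * g⁻¹ ∈ E}
  one_mem' e := by simp
  mul_mem' {a b} ha hb e := by rw [hb e, ha (b * e * b⁻¹)]; simp [mul_assoc]
  inv_mem' {a} ha e := by rw [ha (a⁻¹ * e * a⁻¹⁻¹)]; simp [mul_assoc]

/-- A `p`-subgroup meeting a normal set in more than `E` has such an element stabilizing `E`. -/
theorem exists_mem_setStab (D : Set G) (hD : ∀ g : G, ∀ d ∈ D, g * d * g⁻¹ ∈ D)
    {P : Subgroup G} (hP : IsPGroup p P) {E : Set G} (hED : E ⊆ D) (hEP : ∀ e ∈ E, e ∈ P)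
    (hstab : ∀ e ∈ E, e ∈ setStab E) {d : G} (hdD : d ∈ D) (hdP : d ∈ P) (hdE : d ∉ E) :
    ∃ x ∈ D, x ∈ P ∧ x ∉ E ∧ x ∈ setStab E := by
  by_contra hcon
  push Not at hcon
  set H := (setStab E).subgroupOf P with hH
  have hHE : ∀ x : P, (x : G) ∈ D → x ∈ H → (x : G) ∈ E := fun x hx hxH => by
    by_contra hxE
    exact hcon x hx x.2 hxE hxH
  haveI : Group.IsNilpotent P := hP.isNilpotent
  have hle : normalizer (H : Set P) ≤ H := by
    intro a ha
    have hfw : ∀ b : P, b ∈ normalizer (H : Set P) → ∀ e ∈ E, (b : G) * e * (b : G)⁻¹ ∈ E := by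
      intro b hb e he
      have h1 : (⟨e, hEP e he⟩ : P) ∈ H := hstab e he
      exact hHE _ (hD _ e (hED he)) ((mem_normalizer_iff.mp hb _).mp h1)
    show ∀ e, e ∈ E ↔ (a : G) * e * (a : G)⁻¹ ∈ E
    refine fun e => ⟨hfw a ha e, fun he => ?_⟩
    simpa [mul_assoc] using hfw a⁻¹ (inv_mem ha) _ he
  by_cases htop : H = ⊤
  · exact hdE (hHE ⟨d, hdP⟩ hdD (htop ▸ mem_top _))
  · exact (normalizerCondition_of_isNilpotent H (lt_top_iff_ne_top.mpr htop)).not_ge hle

/-- Baer–Suzuki: a normal set any two elements of which generate a `p`-group generates a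
`p`-group. -/
theorem isPGroup_closure (D : Set G) (hD : ∀ g : G, ∀ d ∈ D, g * d * g⁻¹ ∈ D)
    (h : ∀ a ∈ D, ∀ b ∈ D, IsPGroup p (closure ({a, b} : Set G))) :
    IsPGroup p (closure D) := by
  classical
  by_cases hall : ∀ P Q : Sylow p G, D ∩ (P : Set G) = D ∩ (Q : Set G)
  · obtain ⟨P⟩ : Nonempty (Sylow p G) := inferInstance
    refine P.isPGroup'.to_le ((closure_le _).mpr fun d hd => ?_)
    obtain ⟨Q, hQ⟩ := (h d hd d hd).exists_le_sylow
    have h1 : d ∈ D ∩ (Q : Set G) := ⟨hd, hQ (subset_closure (Set.mem_insert d _))⟩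
    rw [← hall P Q] at h1
    exact h1.2
  exfalso
  push Not at hall
  obtain ⟨⟨P, Q⟩, hPQ, hmax⟩ := Set.exists_max_image
    {x : Sylow p G × Sylow p G | D ∩ (x.1 : Set G) ≠ D ∩ (x.2 : Set G)}
    (fun x => (D ∩ (x.1 : Set G) ∩ (x.2 : Set G)).ncard) (Set.toFinite _)
    (by obtain ⟨P, Q, hne⟩ := hall; exact ⟨(P, Q), hne⟩)
  obtain ⟨E, hE⟩ : ∃ E, E = D ∩ (P : Set G) ∩ (Q : Set G) := ⟨_, rfl⟩
  simp only [Set.mem_setOf_eq] at hPQ hmax
  rw [← hE] at hmax
  have hEmem : ∀ e, e ∈ E ↔ e ∈ D ∧ e ∈ (P : Subgroup G) ∧ e ∈ (Q : Subgroup G) := fun e => by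
    rw [hE]; exact and_assoc
  have hstab : ∀ e ∈ E, e ∈ setStab E := by
    intro e he u
    obtain ⟨-, heP, heQ⟩ := (hEmem e).mp he
    rw [hEmem, hEmem]
    refine ⟨fun hu => ⟨hD _ _ hu.1, mul_mem (mul_mem heP hu.2.1) (inv_mem heP),
      mul_mem (mul_mem heQ hu.2.2) (inv_mem heQ)⟩, fun hu => ⟨?_, ?_, ?_⟩⟩
    · simpa [mul_assoc] using hD e⁻¹ _ hu.1
    · simpa [mul_assoc] using mul_mem (mul_mem (inv_mem heP) hu.2.1) heP
    · simpa [mul_assoc] using mul_mem (mul_mem (inv_mem heQ) hu.2.2) heQ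
  have hcardeq : (D ∩ (P : Set G)).ncard = (D ∩ (Q : Set G)).ncard := by
    obtain ⟨g, hg⟩ := MulAction.exists_smul_eq G P Q
    have : D ∩ (Q : Set G) = (fun x => g * x * g⁻¹) '' (D ∩ (P : Set G)) := by
      ext u
      constructor
      · rintro ⟨hu, huQ⟩
        rw [← hg] at huQ
        obtain ⟨v, hv, rfl⟩ := huQ
        exact ⟨v, ⟨by simpa [mul_assoc] using hD g⁻¹ _ hu, hv⟩, by simp⟩
      · rintro ⟨v, ⟨hv, hvP⟩, rfl⟩
        refine ⟨hD g v hv, ?_⟩
        rw [← hg]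
        exact ⟨v, hvP, by simp⟩
    rw [this, Set.ncard_image_of_injective _ (fun a b hab => mul_left_cancel (mul_right_cancel hab))]
  obtain ⟨d₁, hd₁, hd₁E⟩ : ∃ d ∈ D ∩ (P : Set G), d ∉ E := by
    by_contra hcon
    push Not at hcon
    have hsub : D ∩ (P : Set G) ⊆ D ∩ (Q : Set G) := fun u hu =>
      ⟨hu.1, ((hEmem u).mp (hcon u hu)).2.2⟩
    exact hPQ (Set.eq_of_subset_of_ncard_le hsub hcardeq.ge)
  obtain ⟨d₂, hd₂, hd₂E⟩ : ∃ d ∈ D ∩ (Q : Set G), d ∉ E := by
    by_contra hcon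
    push Not at hcon
    have hsub : D ∩ (Q : Set G) ⊆ D ∩ (P : Set G) := fun u hu =>
      ⟨hu.1, ((hEmem u).mp (hcon u hu)).2.1⟩
    exact hPQ (Set.eq_of_subset_of_ncard_le hsub hcardeq.le).symm
  have hED : E ⊆ D := fun e he => ((hEmem e).mp he).1
  obtain ⟨x, hxD, hxP, hxE, hxS⟩ := exists_mem_setStab D hD P.isPGroup' hED
    (fun e he => ((hEmem e).mp he).2.1) hstab hd₁.1 hd₁.2 hd₁E
  obtain ⟨y, hyD, hyQ, hyE, hyS⟩ := exists_mem_setStab D hD Q.isPGroup' hED
    (fun e he => ((hEmem e).mp he).2.2) hstab hd₂.1 hd₂.2 hd₂E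
  have hK : IsPGroup p (closure E) :=
    P.isPGroup'.to_le ((closure_le _).mpr fun e he => ((hEmem e).mp he).2.1)
  have hxy : closure ({x, y} : Set G) ≤ normalizer ((closure E : Subgroup G) : Set G) := by
    rw [closure_le]
    rintro u (rfl | rfl)
    · exact mem_normalizer_closure hxS
    · exact mem_normalizer_closure hyS
  obtain ⟨R, hR⟩ := ((h x hxD y hyD).to_sup_of_normal_right' hK hxy).exists_le_sylow
  have hER : ∀ e ∈ E, e ∈ (R : Subgroup G) := fun e he => hR (mem_sup_right (subset_closure he))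
  have hxR : x ∈ (R : Subgroup G) := hR (mem_sup_left (subset_closure (Set.mem_insert x _)))
  have hyR : y ∈ (R : Subgroup G) :=
    hR (mem_sup_left (subset_closure (Set.mem_insert_of_mem _ rfl)))
  have key : ∀ (S : Sylow p G) (u : G), (∀ e ∈ E, e ∈ (S : Subgroup G)) → u ∈ D →
      u ∈ (S : Subgroup G) → u ∈ (R : Subgroup G) → u ∉ E →
      D ∩ (S : Set G) = D ∩ (R : Set G) := by
    intro S u hES hu huS huR huE
    by_contra hne
    have hle := hmax (S, R) hne
    have hsub : insert u E ⊆ D ∩ (S : Set G) ∩ (R : Set G) := by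
      rintro v (rfl | hv)
      · exact ⟨⟨hu, huS⟩, huR⟩
      · exact ⟨⟨hED hv, hES v hv⟩, hER v hv⟩
    have hlt := Set.ncard_le_ncard hsub
    rw [Set.ncard_insert_of_notMem huE] at hlt
    simp only at hle
    omega
  apply hPQ
  rw [key P x (fun e he => ((hEmem e).mp he).2.1) hxD hxP hxR hxE,
    key Q y (fun e he => ((hEmem e).mp he).2.2) hyD hyQ hyR hyE]

/-- Baer–Suzuki for one element. -/
theorem exists_normal_of_pairs (x : G)
    (h : ∀ g : G, IsPGroup p (closure ({x, g * x * g⁻¹} : Set G))) :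
    ∃ N : Subgroup G, N.Normal ∧ IsPGroup p N ∧ x ∈ N := by
  refine ⟨normalClosure {x}, inferInstance, ?_, subset_normalClosure rfl⟩
  have hpair : ∀ a ∈ {u : G | ∃ g : G, g * x * g⁻¹ = u}, ∀ b ∈ {u : G | ∃ g : G, g * x * g⁻¹ = u},
      IsPGroup p (closure ({a, b} : Set G)) := by
    rintro _ ⟨g, rfl⟩ _ ⟨k, rfl⟩
    refine ((h (g⁻¹ * k)).map (MulAut.conj g).toMonoidHom).to_le ?_
    rw [MonoidHom.map_closure]
    refine closure_mono ?_
    rintro u (rfl | rfl)
    · exact ⟨x, Set.mem_insert x _, by simp⟩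
    · exact ⟨g⁻¹ * k * x * (g⁻¹ * k)⁻¹, Set.mem_insert_of_mem _ rfl, by simp [mul_assoc]⟩
  have := isPGroup_closure _ (fun g d hd => by
    obtain ⟨k, rfl⟩ := hd; exact ⟨g * k, by simp [mul_assoc]⟩) hpair
  refine this.to_le ((closure_le _).mpr fun u hu => ?_)
  rw [Group.mem_conjugatesOfSet_iff] at hu
  obtain ⟨x', hx', hu⟩ := hu
  rw [Set.mem_singleton_iff.mp hx'] at hu
  obtain ⟨g, rfl⟩ := isConj_iff.mp hu
  exact subset_closure ⟨g, rfl⟩

omit hp in
/-- An involution in no normal `2`-subgroup inverts a nontrivial element of odd order. -/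
theorem exists_inverted (t : G) (ht : t ^ 2 = 1)
    (hO : ∀ N : Subgroup G, N.Normal → IsPGroup 2 N → t ∉ N) :
    ∃ h : G, h ≠ 1 ∧ Odd (orderOf h) ∧ t * h * t⁻¹ = h⁻¹ := by
  by_contra hcon
  push Not at hcon
  haveI : Fact (Nat.Prime 2) := ⟨Nat.prime_two⟩
  obtain ⟨N, hN, hN2, htN⟩ := exists_normal_of_pairs (p := 2) t fun g => by
    set s := g * t * g⁻¹ with hs
    have hs2 : s ^ 2 = 1 := by rw [hs, conj_pow, ht, mul_one, mul_inv_cancel]
    have htt : t⁻¹ = t := inv_eq_of_mul_eq_one_right (by rw [← pow_two]; exact ht)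
    have hss : s⁻¹ = s := inv_eq_of_mul_eq_one_right (by rw [← pow_two]; exact hs2)
    set w := t * s with hw
    have hinv : t * w * t⁻¹ = w⁻¹ := by
      rw [hw, mul_inv_rev, htt, hss, ← mul_assoc, ← pow_two, ht, one_mul]
    have hpow : ∀ n : ℕ, t * w ^ n * t⁻¹ = (w ^ n)⁻¹ := fun n => by
      rw [← conj_pow, hinv, inv_pow]
    have hw2 : ∃ k, orderOf w = 2 ^ k := by
      obtain ⟨k, m, hm, hkm⟩ := Nat.exists_eq_pow_mul_and_not_dvd (orderOf_pos w).ne' 2 (by norm_num)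
      refine ⟨k, ?_⟩
      by_contra hne
      have hord : orderOf (w ^ 2 ^ k) = m := by
        rw [orderOf_pow_of_dvd (pow_ne_zero _ two_ne_zero) (hkm ▸ dvd_mul_right _ _), hkm,
          Nat.mul_div_cancel_left _ (pow_pos two_pos _)]
      refine hcon (w ^ 2 ^ k) ?_ ?_ (hpow _)
      · intro e
        rw [e, orderOf_one] at hord
        rw [← hord, mul_one] at hkm
        exact hne hkm
      · rw [hord]; exact Nat.odd_iff.mpr (by omega)
    obtain ⟨k, hk⟩ := hw2
    have hW : IsPGroup 2 (zpowers w) := IsPGroup.of_card (by rw [Nat.card_zpowers, hk])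
    have hT : IsPGroup 2 (zpowers t) := by
      obtain ⟨i, -, hi⟩ := (Nat.dvd_prime_pow Nat.prime_two).mp
        (orderOf_dvd_of_pow_eq_one (n := 2 ^ 1) (by simpa using ht))
      exact IsPGroup.of_card (by rw [Nat.card_zpowers, hi])
    have hnorm : zpowers t ≤ normalizer ((zpowers w : Subgroup G) : Set G) := by
      refine zpowers_le.mpr (mem_normalizer_iff.mpr fun u => ⟨fun hu => ?_, fun hu => ?_⟩)
      · obtain ⟨i, rfl⟩ := mem_zpowers_iff.mp hu
        rw [← conj_zpow, hinv]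
        exact zpow_mem (inv_mem (mem_zpowers w)) i
      · obtain ⟨i, hi⟩ := mem_zpowers_iff.mp hu
        refine mem_zpowers_iff.mpr ⟨-i, ?_⟩
        calc w ^ (-i) = (t * w * t⁻¹) ^ i := by rw [hinv, zpow_neg, inv_zpow]
          _ = t * w ^ i * t⁻¹ := conj_zpow
          _ = t * (t * u * t⁻¹) * t⁻¹ := by rw [hi]
          _ = (t * t) * u * (t * t)⁻¹ := by group
          _ = u := by rw [← pow_two, ht]; simp
    refine (hT.to_sup_of_normal_right' hW hnorm).to_le ((closure_le _).mpr ?_)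
    rintro u (rfl | rfl)
    · exact mem_sup_left (mem_zpowers _)
    · have he : s = t * w := by rw [hw, ← mul_assoc, ← pow_two, ht, one_mul]
      rw [he]
      exact mul_mem (mem_sup_left (mem_zpowers t)) (mem_sup_right (mem_zpowers w))
  exact hO N hN hN2 htN

end Cfsg.Agent.BaerSuzuki
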