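import Cfsg.Agent.Transfer.OmegaFour
import Cfsg.Agent.Transfer.Abelian
import Cfsg.Agent.Solv.PRegular

/-!
Counting classes of `p`-elements.
-/

set_option autoImplicit false

namespace Cfsg.Agent.ClassCount

open Subgroup Cfsg.Agent.Transfer

variable {G : Type*} [Group G] [Finite G] {p : ℕ} [hp : Fact p.Prime]

/-- The type of classes of `p`-elements. -/
abbrev PClass (p : ℕ) (G : Type*) [Group G] : Type _ :=
  {c : ConjClasses G // ∀ x ∈ c.carrier, ∃ k : ℕ, orderOf x = p ^ k}

/-- The class of an element of a `p`-subgroup. -/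
def toClass {P : Subgroup G} (hP : IsPGroup p P) (t : P) : PClass p G :=
  ⟨ConjClasses.mk (t : G), fun x hx => by
    obtain ⟨k, hk⟩ := IsPGroup.iff_orderOf.mp hP t
    obtain ⟨g, hg⟩ := isConj_iff.mp (ConjClasses.mem_carrier_iff_mk_eq.mp hx |>
      ConjClasses.mk_eq_mk_iff_isConj.mp).symm
    exact ⟨k, by rw [← hg, ← MulAut.conj_apply, MulEquiv.orderOf_eq, orderOf_coe, hk]⟩⟩

theorem toClass_surjective (P : Sylow p G) : Function.Surjective (toClass P.isPGroup') := by
  rintro ⟨c, hc⟩
  induction c using Quotient.inductionOn with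
  | h x =>
    obtain ⟨k, hk⟩ := hc x ConjClasses.mem_carrier_mk
    have hz : IsPGroup p (zpowers x) := IsPGroup.of_card (by rw [Nat.card_zpowers, hk])
    obtain ⟨Q, hQ⟩ := hz.exists_le_sylow
    obtain ⟨g, hg⟩ := MulAction.exists_smul_eq G Q P
    have hxP : g * x * g⁻¹ ∈ (P : Subgroup G) := by
      rw [← hg]; exact ⟨x, hQ (mem_zpowers x), by simp⟩
    exact ⟨⟨_, hxP⟩, Subtype.ext (ConjClasses.mk_eq_mk_iff_isConj.mpr
      (isConj_iff.mpr ⟨g, rfl⟩).symm)⟩

theorem toClass_conj {P : Subgroup G} (hP : IsPGroup p P) (g : G) (t : P)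
    (h : g * t * g⁻¹ ∈ P) : toClass hP ⟨g * t * g⁻¹, h⟩ = toClass hP t :=
  Subtype.ext (ConjClasses.mk_eq_mk_iff_isConj.mpr (isConj_iff.mpr ⟨g, rfl⟩).symm)

/-- If every fibre over the image of an element outside `C` has at least `n` elements outside `C`,
then `n |image| + |C| ≤ |domain| + n |C|`. -/
theorem fibre_bound {α β : Type*} [Finite α] (f : α → β) (hf : Function.Surjective f)
    (C : Set α) (n : ℕ) (hσ : ∀ a ∉ C, n ≤ Nat.card {x : α // x ∉ C ∧ f x = f a}) :
    n * Nat.card β + Nat.card C ≤ Nat.card α + n * Nat.card C := by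
  classical
  cases nonempty_fintype α
  haveI := Fintype.ofSurjective f hf
  rw [Nat.card_eq_fintype_card (α := β), Nat.card_eq_card_toFinset C, Nat.card_eq_fintype_card (α := α)]
  set S := (Finset.univ : Finset α).filter (· ∉ C) with hS
  have h1 : n * (S.image f).card ≤ S.card := by
    refine Finset.mul_card_image_le_card S n fun b hb => ?_
    obtain ⟨a, ha, rfl⟩ := Finset.mem_image.mp hb
    rw [hS, Finset.mem_filter] at ha
    refine (hσ a ha.2).trans (le_of_eq ?_)
    rw [Nat.card_eq_fintype_card, Fintype.card_subtype, hS, Finset.filter_filter]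
  have h2 : (Finset.univ : Finset β) ⊆ S.image f ∪ C.toFinset.image f := fun b _ => by
    obtain ⟨a, rfl⟩ := hf b
    by_cases ha : a ∈ C
    · exact Finset.mem_union_right _ (Finset.mem_image_of_mem f (Set.mem_toFinset.mpr ha))
    · exact Finset.mem_union_left _ (Finset.mem_image_of_mem f (by simp [hS, ha]))
  have h3 := (Finset.card_le_card h2).trans (Finset.card_union_le _ _)
  have h4 : (C.toFinset.image f).card ≤ C.toFinset.card := Finset.card_image_le
  have h5 : S.card + C.toFinset.card = Fintype.card α := by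
    rw [← Finset.card_compl_add_card C.toFinset]
    congr 2
    ext a
    simp [hS]
  rw [Finset.card_univ] at h3
  calc n * Fintype.card β + C.toFinset.card
      ≤ n * ((S.image f).card + C.toFinset.card) + C.toFinset.card :=
        Nat.add_le_add_right (Nat.mul_le_mul_left n (h3.trans (Nat.add_le_add_left h4 _))) _
    _ = n * (S.image f).card + C.toFinset.card + n * C.toFinset.card := by ring
    _ ≤ S.card + C.toFinset.card + n * C.toFinset.card :=
        Nat.add_le_add_right (Nat.add_le_add_right h1 _) _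
    _ = Fintype.card α + n * C.toFinset.card := by rw [h5]

/-- The classes of a `p`-group number at most `|Z| + (|P| - |Z|)/p`. -/
theorem classes_bound {P : Type*} [Group P] [Finite P] (hP : IsPGroup p P) :
    p * Nat.card (ConjClasses P) + Nat.card (center P) ≤
      Nat.card P + p * Nat.card (center P) := by
  refine fibre_bound (ConjClasses.mk : P → ConjClasses P) ConjClasses.mk_surjective
    (center P : Set P) p fun a ha => ?_
  have h1 : Nat.card {x : P // x ∉ (center P : Set P) ∧ ConjClasses.mk x = ConjClasses.mk a} =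
      (centralizer ({a} : Set P)).index := by
    rw [← Cfsg.Agent.Solv.carrier_ncard a, ← Nat.card_coe_set_eq]
    refine Nat.card_congr (Equiv.subtypeEquivRight fun x => ?_)
    rw [ConjClasses.mem_carrier_iff_mk_eq]
    refine ⟨fun h => h.2, fun h => ⟨fun hx => ha ?_, h⟩⟩
    obtain ⟨g, hg⟩ := isConj_iff.mp (ConjClasses.mk_eq_mk_iff_isConj.mp h)
    rw [mem_center_iff.mp hx g, mul_inv_cancel_right] at hg
    exact hg ▸ hx
  rw [h1]
  obtain ⟨k, hk⟩ := hP.index (centralizer ({a} : Set P))
  rw [hk]
  refine Nat.le_self_pow (fun e => ha ?_) p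
  rw [e, pow_zero, index_eq_one] at hk
  exact mem_center_iff.mpr fun g => mem_centralizer_singleton_iff.mp (hk ▸ mem_top g)

/-- A `p`-subgroup with a normalizing element of order prime to `p` acting nontrivially has few
fused classes. -/
theorem two_mul_card_le (P : Sylow p G) (hP : IsMulCommutative P)
    (h : ¬ normalizer ((P : Subgroup G) : Set G) ≤ centralizer ((P : Subgroup G) : Set G)) :
    2 * p * Nat.card (PClass p G) ≤ (p + 1) * Nat.card P := by
  obtain ⟨b, hb, hbC⟩ := SetLike.not_le_iff_exists.mp h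
  set C : Subgroup ↥(P : Subgroup G) := (centralizer ({b} : Set G)).subgroupOf (P : Subgroup G)
    with hC
  have hne : C ≠ ⊤ := fun e => hbC (mem_centralizer_iff.mpr fun x hx => by
    have h1 : (⟨x, hx⟩ : ↥(P : Subgroup G)) ∈ C := e ▸ mem_top _
    exact mem_centralizer_singleton_iff.mp h1)
  have h2 : p * Nat.card C ≤ Nat.card P := by
    rw [← C.card_mul_index, mul_comm]
    refine Nat.mul_le_mul_left _ ?_
    obtain ⟨k, hk⟩ := P.isPGroup'.index C
    rw [hk]
    exact Nat.le_self_pow (fun e => hne (index_eq_one.mp (by rw [hk, e, pow_zero]))) p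
  have hmem : ∀ x : ↥(P : Subgroup G), b * x * b⁻¹ ∈ (P : Subgroup G) :=
    fun x => (mem_normalizer_iff.mp hb x).mp x.2
  have h3 := fibre_bound (toClass P.isPGroup') (toClass_surjective P) (C : Set ↥(P : Subgroup G)) 2
    (fun a ha => by
      have hne' : (⟨b * a * b⁻¹, hmem a⟩ : ↥(P : Subgroup G)) ≠ a := fun e => ha
        (mem_centralizer_singleton_iff.mpr
          (mul_inv_eq_iff_eq_mul.mp (congrArg Subtype.val e)).symm)
      have hC' : (⟨b * a * b⁻¹, hmem a⟩ : ↥(P : Subgroup G)) ∉ C := fun e => ha (by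
        have h4 : b * a * b⁻¹ * b = b * (b * a * b⁻¹) := mem_centralizer_singleton_iff.mp e
        refine mem_centralizer_singleton_iff.mpr ?_
        calc (a : G) * b = b⁻¹ * (b * a * b⁻¹ * b) * b := by group
          _ = b⁻¹ * (b * (b * a * b⁻¹)) * b := by rw [h4]
          _ = b * a := by group)
      refine Finite.one_lt_card_iff_nontrivial.mpr ⟨⟨⟨_, hC', toClass_conj P.isPGroup' b a _⟩,
        ⟨a, ha, rfl⟩, fun e => hne' (congrArg Subtype.val e)⟩⟩)
  replace h3 : 2 * Nat.card (PClass p G) + Nat.card C ≤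
      Nat.card (P : Subgroup G) + 2 * Nat.card C := h3
  calc 2 * p * Nat.card (PClass p G) = p * (2 * Nat.card (PClass p G)) := by ring
    _ ≤ p * (Nat.card P + Nat.card C) := Nat.mul_le_mul_left p (by omega)
    _ = p * Nat.card P + p * Nat.card C := by ring
    _ ≤ p * Nat.card P + Nat.card P := Nat.add_le_add_left h2 _
    _ = (p + 1) * Nat.card P := by ring

/-- Many classes of `p`-elements, `p` odd: abelian Sylow subgroup and a normal `p`-complement. -/
theorem of_many_classes (P : Sylow p G) (hp2 : p ≠ 2)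
    (h : (p + 1) * Nat.card P < 2 * p * Nat.card (PClass p G)) :
    HasNormalPComplement p G ∧ IsMulCommutative ↥(P : Subgroup G) := by
  have hab : IsMulCommutative ↥(P : Subgroup G) := by
    by_contra hna
    refine (not_le.mpr h) ?_
    set Q := ↥(P : Subgroup G)
    have hsur : Nat.card (PClass p G) ≤ Nat.card (ConjClasses Q) := by
      refine Nat.card_le_card_of_surjective
        (Quotient.lift (toClass P.isPGroup') fun a b hab => ?_) ?_
      · obtain ⟨g, hg⟩ := isConj_iff.mp hab
        rw [← hg]
        exact (toClass_conj P.isPGroup' (g : G) a (SetLike.coe_mem (g * a * g⁻¹))).symm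
      · intro c
        obtain ⟨a, ha⟩ := toClass_surjective P c
        exact ⟨⟦a⟧, ha⟩
    have h1 := classes_bound (p := p) P.isPGroup'
    have h2 : p * p * Nat.card (center Q) ≤ Nat.card Q := by
      rw [← (center Q).card_mul_index, mul_comm (p * p)]
      refine Nat.mul_le_mul_left _ ?_
      obtain ⟨k, hk⟩ := P.isPGroup'.index (center Q)
      rw [hk, ← pow_two]
      refine Nat.pow_le_pow_right hp.out.pos ?_
      by_contra hk2
      apply hna
      haveI : IsCyclic (Q ⧸ center Q) := by
        interval_cases k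
        · haveI : Subsingleton (Q ⧸ center Q) :=
            (Nat.card_eq_one_iff_unique.mp (by rw [← index_eq_card, hk, pow_zero])).1
          infer_instance
        · exact isCyclic_of_prime_card (p := p) (by rw [← index_eq_card, hk, pow_one])
      exact ⟨⟨commutative_of_cyclic_center_quotient (QuotientGroup.mk' (center Q))
        (by rw [QuotientGroup.ker_mk'])⟩⟩
    obtain ⟨r, hr⟩ : ∃ r, p = r + 3 := ⟨p - 3, by have := hp.out.two_le; omega⟩
    subst hr
    have key : ∀ N k c z : ℕ, k ≤ c → (r + 3) * c + z ≤ N + (r + 3) * z →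
        (r + 3) * (r + 3) * z ≤ N → 2 * (r + 3) * k ≤ (r + 3 + 1) * N := by
      intro N k c z hk hc hz
      have h9 : 2 * z ≤ N := le_trans (Nat.mul_le_mul_right z (by nlinarith)) hz
      have h10 := Nat.mul_le_mul_left (r + 2) h9
      have h11 := Nat.mul_le_mul_left (r + 3) hk
      nlinarith
    exact key _ _ _ _ hsur h1 h2
  exact ⟨hasNPC_of_burnside P (by_contra fun hc => (not_le.mpr h) (two_mul_card_le P hab hc)), hab⟩

/-- A normal `p`-complement and an abelian Sylow subgroup give `|P|` classes of `p`-elements. -/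
theorem card_pclass_of_npc (P : Sylow p G) (hN : HasNormalPComplement p G)
    (hP : IsMulCommutative ↥(P : Subgroup G)) : Nat.card (PClass p G) = Nat.card P := by
  refine (Nat.card_eq_of_bijective _ ⟨?_, toClass_surjective P⟩).symm
  intro a b hab
  obtain ⟨g, hg⟩ := isConj_iff.mp (ConjClasses.mk_eq_mk_iff_isConj.mp (congrArg Subtype.val hab))
  obtain ⟨z, hz, e⟩ := control_of_frobCond (frobCond_of_hasNPC hN) P a a.2 g (hg ▸ b.2)
  haveI := hP
  apply Subtype.ext
  rw [← hg, ← e, show z * a = a * z from congrArg Subtype.val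
    (mul_comm' (⟨z, hz⟩ : ↥(P : Subgroup G)) a), mul_inv_cancel_right]

end Cfsg.Agent.ClassCount
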