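import Cfsg.Agent.Transfer.Frobenius
import Cfsg.Agent.Solv.Nilpotent

/-!
Fusion control of the elements of order `p` (and `4`), and a union-of-conjugates lemma.
-/

set_option autoImplicit false

namespace Cfsg.Agent.Transfer

open Subgroup
open scoped commutatorElement

variable {G : Type*} [Group G] [Finite G] {p : ℕ} [hp : Fact p.Prime]

/-- The elements tested in the criteria for normal `p`-complements. -/
def SmallOrder (p : ℕ) (a : G) : Prop := a ^ p = 1 ∨ (p = 2 ∧ a ^ 4 = 1)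

omit [Finite G] hp in
/-- Powers of a product when the commutator is central. -/
theorem mul_pow_of_central' {y z c : G} (hc : c = ⁅z, y⁆) (hcy : Commute c y) (hcz : Commute c z)
    (n : ℕ) : (y * z) ^ n = y ^ n * z ^ n * c ^ (n.choose 2) := by
  have hzn : ∀ m : ℕ, z ^ m * y = y * z ^ m * c ^ m := by
    intro m
    induction m with
    | zero => simp
    | succ m ih =>
      have hzy : z * y = y * z * c := by
        rw [← (hcy.mul_right hcz).eq, hc, commutatorElement_def]; group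
      calc z ^ (m + 1) * y = z ^ m * (z * y) := by rw [pow_succ, mul_assoc]
        _ = (z ^ m * y) * z * c := by rw [hzy]; group
        _ = y * z ^ m * (c ^ m * z) * c := by rw [ih]; group
        _ = y * z ^ m * (z * c ^ m) * c := by rw [(hcz.pow_left m).eq]
        _ = y * (z ^ m * z) * (c ^ m * c) := by group
        _ = y * z ^ (m + 1) * c ^ (m + 1) := by rw [← pow_succ, ← pow_succ]
  induction n with
  | zero => simp
  | succ n ih =>
    have hcn : Commute (c ^ n.choose 2) (y * z) := (hcy.mul_right hcz).pow_left _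
    calc (y * z) ^ (n + 1) = y ^ n * z ^ n * (c ^ n.choose 2 * (y * z)) := by
          rw [pow_succ, ih, mul_assoc]
      _ = y ^ n * (z ^ n * y) * z * c ^ n.choose 2 := by rw [hcn.eq]; group
      _ = y ^ n * y * z ^ n * (c ^ n * z) * c ^ n.choose 2 := by rw [hzn]; group
      _ = y ^ n * y * z ^ n * (z * c ^ n) * c ^ n.choose 2 := by rw [(hcz.pow_left n).eq]
      _ = (y ^ n * y) * (z ^ n * z) * (c ^ n * c ^ n.choose 2) := by group
      _ = y ^ (n + 1) * z ^ (n + 1) * c ^ (n + 1).choose 2 := by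
        rw [← pow_succ, ← pow_succ, ← pow_add, Nat.choose_succ_succ' n 1, Nat.choose_one_right]

/-- If `x` of order prime to `p` moves `y` to `y * w` and fixes `w` in a `p`-group, then `w = 1`. -/
theorem eq_one_of_shift {Q : Subgroup G} (hQ : IsPGroup p Q) {x y w : G}
    (hx : Nat.Coprime (orderOf x) p) (hw : w ∈ Q) (hy : x * y * x⁻¹ = y * w)
    (hc : x * w * x⁻¹ = w) : w = 1 := by
  have hpow : ∀ n : ℕ, x ^ n * y * (x ^ n)⁻¹ = y * w ^ n := by
    intro n
    induction n with
    | zero => simp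
    | succ n ih =>
      calc x ^ (n + 1) * y * (x ^ (n + 1))⁻¹ = x * (x ^ n * y * (x ^ n)⁻¹) * x⁻¹ := by
            rw [pow_succ']; group
        _ = (x * y * x⁻¹) * (x * w * x⁻¹) ^ n := by rw [ih, conj_pow]; group
        _ = y * w ^ (n + 1) := by rw [hy, hc, pow_succ']; group
  have h := hpow (orderOf x)
  rw [pow_orderOf_eq_one, one_mul, inv_one, mul_one] at h
  obtain ⟨k, hk⟩ := IsPGroup.iff_orderOf.mp hQ ⟨w, hw⟩
  rw [← orderOf_coe] at hk
  exact orderOf_eq_one_iff.mp (Nat.eq_one_of_dvd_coprimes (hx.pow_right k)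
    (orderOf_dvd_of_pow_eq_one (left_eq_mul.mp h)) (dvd_of_eq hk))

/-- The elements of order `p`, and for `p = 2` the real elements of order `4`. -/
def SmallReal (p : ℕ) (a : G) : Prop := a ^ p = 1 ∨ (p = 2 ∧ a ^ 4 = 1 ∧ IsConj a a⁻¹)

/-- An element of order prime to `p` normalizing a `p`-group and centralizing its elements of
order `p`, and its real elements of order `4` for `p = 2`, centralizes it. -/
theorem mem_centralizer_of_smallReal {x : G} (hx : Nat.Coprime (orderOf x) p) :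
    ∀ Q : Subgroup G, IsPGroup p Q → x ∈ normalizer (Q : Set G) →
      (∀ a ∈ Q, SmallReal p a → a * x = x * a) → x ∈ centralizer (Q : Set G) := by
  suffices ∀ (n : ℕ) (Q : Subgroup G), Nat.card Q = n → IsPGroup p Q →
      x ∈ normalizer (Q : Set G) → (∀ a ∈ Q, SmallReal p a → a * x = x * a) →
      x ∈ centralizer (Q : Set G) from fun Q => this _ Q rfl
  intro n
  induction n using Nat.strong_induction_on with
  | h n IH =>
    intro Q hn hQ hxQ hΩ
    refine mem_centralizer_iff.mpr fun y hy => ?_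
    by_cases hQ0 : Q = ⊥
    · obtain rfl := mem_bot.mp (hQ0 ▸ hy)
      simp
    haveI : Nontrivial Q := (nontrivial_iff_ne_bot Q).mpr hQ0
    obtain ⟨M, hM, -⟩ :=
      (IsCoatomic.eq_top_or_exists_le_coatom (⊥ : Subgroup Q)).resolve_left bot_ne_top
    obtain ⟨hMc, hMp⟩ := Cfsg.Agent.Solv.pGroup_coatom hQ hM
    let SV : Set G := {g | (∃ a ∈ Q, a ^ p = g) ∨ ∃ a ∈ Q, ∃ b ∈ Q, ⁅a, b⁆ = g}
    set V := closure SV with hV
    have hVM : V ≤ M.map Q.subtype := by
      refine (closure_le _).mpr ?_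
      rintro g (⟨a, ha, rfl⟩ | ⟨a, ha, b, hb, rfl⟩)
      · exact ⟨(⟨a, ha⟩ : Q) ^ p, hMp _, rfl⟩
      · exact ⟨⁅(⟨a, ha⟩ : Q), ⟨b, hb⟩⁆,
          hMc (commutator_mem_commutator (mem_top _) (mem_top _)), rfl⟩
    have hVQ : V ≤ Q := hVM.trans (map_subtype_le M)
    have hinv : ∀ g ∈ normalizer (Q : Set G), ∀ v ∈ V, g * v * g⁻¹ ∈ V := by
      intro g hg v hv
      have hle : V.map (MulAut.conj g).toMonoidHom ≤ V := by
        rw [hV, MonoidHom.map_closure]
        refine closure_mono ?_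
        rintro _ ⟨s, (⟨a, ha, rfl⟩ | ⟨a, ha, b, hb, rfl⟩), rfl⟩
        · exact Or.inl ⟨g * a * g⁻¹, (mem_normalizer_iff.mp hg a).mp ha, by simp [conj_pow]⟩
        · refine Or.inr ⟨g * a * g⁻¹, (mem_normalizer_iff.mp hg a).mp ha, g * b * g⁻¹,
            (mem_normalizer_iff.mp hg b).mp hb, ?_⟩
          simp [commutatorElement_def, mul_assoc]
      exact hle (mem_map_of_mem _ hv)
    have hVx : ∀ v ∈ V, v * x = x * v := by
      refine fun v hv => mem_centralizer_iff.mp (IH _ ?_ V rfl (hQ.to_le hVQ) ?_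
        (fun a ha => hΩ a (hVQ ha))) v hv
      · rw [← hn]
        refine lt_of_lt_of_le ?_ le_rfl
        refine lt_of_le_of_ne (Nat.le_of_dvd Nat.card_pos (card_dvd_of_le hVQ)) fun e => ?_
        have he : V = Q := eq_of_le_of_card_ge hVQ e.ge
        refine hM.1 (eq_top_iff.mpr fun q _ => ?_)
        obtain ⟨m, hm, e'⟩ := hVM (show (q : G) ∈ V by rw [he]; exact q.2)
        exact (Subtype.ext e' : m = q) ▸ hm
      · refine mem_normalizer_iff.mpr fun v => ⟨fun hv => hinv x hxQ v hv, fun hv => ?_⟩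
        simpa [mul_assoc] using hinv x⁻¹ (inv_mem hxQ) _ hv
    -- the shift `w` of `y`
    obtain ⟨w, hw⟩ : ∃ w, w = y⁻¹ * (x * y * x⁻¹) := ⟨_, rfl⟩
    have hwQ : w ∈ Q := hw ▸ mul_mem (inv_mem hy) ((mem_normalizer_iff.mp hxQ y).mp hy)
    have hfix : x * w * x⁻¹ = w → y * x = x * y := by
      intro hc
      have h1 := eq_one_of_shift (y := y) hQ hx hwQ (by rw [hw]; group) hc
      calc y * x = y * (y⁻¹ * (x * y * x⁻¹)) * x := by rw [← hw, h1, mul_one]
        _ = x * y := by simp [mul_assoc]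
    apply hfix
    have hfixV : ∀ v ∈ V, x * v * x⁻¹ = v := fun v hv => by rw [← hVx v hv, mul_inv_cancel_right]
    have hxy : ∀ v ∈ V, y⁻¹ * (x * y * x⁻¹) * v = v * (y⁻¹ * (x * y * x⁻¹)) := by
      intro v hv
      have h1 := hfixV (y * v * y⁻¹) (hinv y (le_normalizer hy) v hv)
      have h2 := hfixV v hv
      calc y⁻¹ * (x * y * x⁻¹) * v = y⁻¹ * (x * y * x⁻¹) * (x * v * x⁻¹) := by rw [h2]
        _ = y⁻¹ * (x * (y * v * y⁻¹) * x⁻¹) * (x * y * x⁻¹) := by group
        _ = v * (y⁻¹ * (x * y * x⁻¹)) := by rw [h1]; group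
    rw [← hw] at hxy
    by_cases hwS : SmallReal p w
    · rw [← hΩ w hwQ hwS, mul_inv_cancel_right]
    set K := Q ⊓ centralizer (V : Set G) with hK
    have hwK : w ∈ K := ⟨hwQ, mem_centralizer_iff.mpr fun v hv => (hxy v hv).symm⟩
    rcases (inf_le_left : K ≤ Q).lt_or_eq with hlt | heq
    · -- a proper invariant subgroup containing `w`
      have hKinv : ∀ g : G, g ∈ normalizer (Q : Set G) → (∀ v ∈ V, g⁻¹ * v * g ∈ V) →
          ∀ k ∈ K, g * k * g⁻¹ ∈ K := by
        intro g hg hgV k hk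
        refine ⟨(mem_normalizer_iff.mp hg k).mp hk.1, mem_centralizer_iff.mpr fun v hv => ?_⟩
        have h1 := mem_centralizer_iff.mp hk.2 _ (hgV v hv)
        calc v * (g * k * g⁻¹) = g * (g⁻¹ * v * g * k) * g⁻¹ := by group
          _ = g * k * g⁻¹ * v := by rw [h1]; group
      have hxK : x ∈ normalizer (K : Set G) := by
        refine mem_normalizer_iff.mpr fun k => ⟨fun hk => hKinv x hxQ (fun v hv => by
          simpa using hinv x⁻¹ (inv_mem hxQ) v hv) k hk, fun hk => ?_⟩
        simpa [mul_assoc] using hKinv x⁻¹ (inv_mem hxQ) (fun v hv => by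
          simpa using hinv x hxQ v hv) _ hk
      have hKc := mem_centralizer_iff.mp (IH _ (hn ▸ lt_of_le_of_ne
        (Nat.le_of_dvd Nat.card_pos (card_dvd_of_le hlt.le))
        fun e => hlt.ne (eq_of_le_of_card_ge hlt.le e.ge)) K rfl (hQ.to_le hlt.le) hxK
        (fun a ha => hΩ a (hlt.le ha))) w hwK
      rw [← hKc, mul_inv_cancel_right]
    exfalso
    apply hwS
    have hcen : ∀ v ∈ V, ∀ q ∈ Q, Commute v q := fun v hv q hq =>
      mem_centralizer_iff.mp (show q ∈ K from SetLike.le_def.mp heq.ge hq).2 v hv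
    set z := x * y * x⁻¹ with hz
    have hyz : y * w = z := by rw [hw]; group
    have hc : ⁅w, y⁆ ∈ V := subset_closure (Or.inr ⟨w, hwQ, y, hy, rfl⟩)
    have hpow := mul_pow_of_central' rfl (hcen _ hc y hy) (hcen _ hc w hwQ) p
    have hyp : y ^ p ∈ V := subset_closure (Or.inl ⟨y, hy, rfl⟩)
    have hzp : z ^ p = y ^ p := by rw [hz, conj_pow]; exact hfixV _ hyp
    rw [hyz, hzp, mul_assoc, left_eq_mul] at hpow
    have hcp : ⁅w, y⁆ ^ p = 1 := by
      have h1 : (w * y * w⁻¹) ^ p = y ^ p := by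
        rw [conj_pow, (hcen _ hyp w hwQ).symm.eq, mul_inv_cancel_right]
      rw [show w * y * w⁻¹ = ⁅w, y⁆ * y by rw [commutatorElement_def]; group,
        (hcen _ hc y hy).mul_pow, mul_eq_right] at h1
      exact h1
    rcases eq_or_ne p 2 with hp2 | hp2
    · subst hp2
      rw [show (2 : ℕ).choose 2 = 1 from rfl, pow_one, mul_eq_one_iff_eq_inv] at hpow
      have h4 : w ^ 4 = 1 := by rw [show 4 = 2 * 2 from rfl, pow_mul, hpow, inv_pow, hcp, inv_one]
      refine Or.inr ⟨rfl, h4, isConj_iff.mpr ⟨y, ?_⟩⟩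
      have hcc : ⁅w, y⁆⁻¹ = ⁅w, y⁆ := inv_eq_of_mul_eq_one_right (by rw [← sq]; exact hcp)
      calc y * w * y⁻¹ = ⁅w, y⁆⁻¹ * w := by rw [commutatorElement_def]; group
        _ = w ^ 2 * w := by rw [hpow]
        _ = w⁻¹ := eq_inv_of_mul_eq_one_left (by rw [← pow_succ, ← pow_succ, h4])
    · obtain ⟨k, hk⟩ : p ∣ p.choose 2 :=
        Nat.Prime.dvd_choose_self hp.out (by norm_num) (lt_of_le_of_ne hp.out.two_le (Ne.symm hp2))
      rw [hk, pow_mul, hcp, one_pow, mul_one] at hpow
      exact Or.inl hpow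

/-- An element of order prime to `p` normalizing a `p`-group and centralizing its elements of
order `p`, and of order `4` for `p = 2`, centralizes it. -/
theorem mem_centralizer_of_smallOrder {x : G} (hx : Nat.Coprime (orderOf x) p) (Q : Subgroup G)
    (hQ : IsPGroup p Q) (hxQ : x ∈ normalizer (Q : Set G))
    (h : ∀ a ∈ Q, SmallOrder p a → a * x = x * a) : x ∈ centralizer (Q : Set G) :=
  mem_centralizer_of_smallReal hx Q hQ hxQ fun a ha hs =>
    h a ha (hs.imp_right fun h' => ⟨h'.1, h'.2.1⟩)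

/-- If a Sylow subgroup controls the fusion of its small-order elements, there is a normal
`p`-complement. -/
theorem hasNPC_of_small_control (P : Sylow p G)
    (h : ∀ a ∈ (P : Subgroup G), SmallOrder p a → ∀ g : G, g * a * g⁻¹ ∈ (P : Subgroup G) →
      ∃ x ∈ (P : Subgroup G), g * a * g⁻¹ = x * a * x⁻¹) : HasNormalPComplement p G := by
  refine hasNPC_of_frobCond (frobCond_of_sylow P ?_)
  suffices ∀ (n : ℕ) (Q : Subgroup G), Nat.card Q = n → Q ≤ (P : Subgroup G) →
      ∀ g ∈ normalizer (Q : Set G), Nat.Coprime (orderOf g) p → g ∈ centralizer (Q : Set G) from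
    fun Q => this _ Q rfl
  intro n
  induction n using Nat.strong_induction_on with
  | h n IH =>
    intro Q hn hQP g hg hgc
    refine mem_centralizer_of_smallOrder hgc Q (P.isPGroup'.to_le hQP) hg ?_
    by_cases hQ0 : Q = ⊥
    · intro a ha _
      obtain rfl := mem_bot.mp (hQ0 ▸ ha)
      simp
    obtain ⟨N, hN⟩ : ∃ N, (P : Subgroup G).lowerCentralSeries N = ⊥ :=
      ((P : Subgroup G).isNilpotent_iff_lowerCentralSeries).mp P.isPGroup'.isNilpotent
    -- the first term of the lower central series not containing `Q`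
    obtain ⟨k, hk, hk'⟩ : ∃ k, Q ≤ (P : Subgroup G).lowerCentralSeries k ∧
        ¬ Q ≤ (P : Subgroup G).lowerCentralSeries (k + 1) := by
      by_contra hcon
      push Not at hcon
      have hall : ∀ k, Q ≤ (P : Subgroup G).lowerCentralSeries k := by
        intro k
        induction k with
        | zero => exact hQP
        | succ k ihk => exact hcon k ihk
      exact hQ0 (le_bot_iff.mp (hN ▸ hall N))
    set D := (P : Subgroup G).lowerCentralSeries (k + 1) with hD
    intro a ha hsmall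
    obtain ⟨x, hx, hxa⟩ := h a (hQP ha) hsmall g (hQP ((mem_normalizer_iff.mp hg a).mp ha))
    have hcD : a⁻¹ * (g * a * g⁻¹) ∈ D := by
      rw [hxa, show a⁻¹ * (x * a * x⁻¹) = ⁅a⁻¹, x⁆ by rw [commutatorElement_def]; group]
      exact commutator_mem_commutator (inv_mem (hk ha)) hx
    obtain ⟨c, hc⟩ : ∃ c, c = a⁻¹ * (g * a * g⁻¹) := ⟨_, rfl⟩
    rw [← hc] at hcD
    -- `⁅Q, g⁆ ⊓ D` is a smaller invariant subgroup
    set R := closure {u : G | ∃ i : ℕ, u = g ^ i * c * (g ^ i)⁻¹} with hR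
    have hgi : ∀ i : ℕ, g ^ i ∈ normalizer (Q : Set G) := fun i => pow_mem hg i
    have hRQ : R ≤ Q := by
      refine (closure_le Q).mpr ?_
      rintro u ⟨i, rfl⟩
      refine (mem_normalizer_iff.mp (hgi i) c).mp ?_
      rw [hc]
      exact mul_mem (inv_mem ha) ((mem_normalizer_iff.mp hg a).mp ha)
    have hgenD : ∀ i : ℕ, g ^ i * c * (g ^ i)⁻¹ ∈ D := by
      intro i
      obtain ⟨b, hb, hbc⟩ : ∃ b ∈ Q, g ^ i * c * (g ^ i)⁻¹ = b⁻¹ * (g * b * g⁻¹) ∧
          SmallOrder p b := by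
        refine ⟨g ^ i * a * (g ^ i)⁻¹, (mem_normalizer_iff.mp (hgi i) a).mp ha, ?_, ?_⟩
        · have e : g * (g ^ i * a * (g ^ i)⁻¹) * g⁻¹ = g ^ i * (g * a * g⁻¹) * (g ^ i)⁻¹ := by
            rw [← mul_assoc, ← mul_assoc, (Commute.self_pow g i).eq]; group
          rw [e, hc]; group
        · rcases hsmall with h1 | ⟨h2, h1⟩
          · exact Or.inl (by rw [conj_pow, h1, mul_one, mul_inv_cancel])
          · exact Or.inr ⟨h2, by rw [conj_pow, h1, mul_one, mul_inv_cancel]⟩
      rw [hbc.1]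
      obtain ⟨y, hy, hyb⟩ := h b (hQP hb) hbc.2 g (hQP ((mem_normalizer_iff.mp hg b).mp hb))
      rw [hyb, show b⁻¹ * (y * b * y⁻¹) = ⁅b⁻¹, y⁆ by rw [commutatorElement_def]; group]
      exact commutator_mem_commutator (inv_mem (hk hb)) hy
    have hRD : R ≤ D := (closure_le D).mpr (by rintro u ⟨i, rfl⟩; exact hgenD i)
    have hRlt : Nat.card R < n := by
      rw [← hn]
      refine lt_of_le_of_ne (Nat.le_of_dvd Nat.card_pos (card_dvd_of_le hRQ)) fun e => hk' ?_
      exact (eq_of_le_of_card_ge hRQ e.ge).symm ▸ hRD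
    have hcR : c ∈ R := subset_closure ⟨0, by simp⟩
    have hgR : g ∈ normalizer (R : Set G) := by
      have hinv : ∀ j : ℕ, ∀ u ∈ R, g ^ j * u * (g ^ j)⁻¹ ∈ R := by
        intro j u hu
        have hle : R.map (MulAut.conj (g ^ j)).toMonoidHom ≤ R := by
          rw [hR, MonoidHom.map_closure]
          refine closure_mono ?_
          rintro _ ⟨_, ⟨i, rfl⟩, rfl⟩
          exact ⟨j + i, by simp only [MulEquiv.coe_toMonoidHom, MulAut.conj_apply, pow_add]; group⟩
        exact hle (mem_map_of_mem _ hu)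
      refine mem_normalizer_iff.mpr fun u => ⟨fun hu => by simpa using hinv 1 u hu, fun hu => ?_⟩
      have h1 := hinv (orderOf g - 1) _ hu
      rwa [show g ^ (orderOf g - 1) = g⁻¹ from eq_inv_of_mul_eq_one_left (by
        rw [← pow_succ, Nat.sub_add_cancel (orderOf_pos g), pow_orderOf_eq_one]),
        show g⁻¹ * (g * u * g⁻¹) * g⁻¹⁻¹ = u by group] at h1
    have hfix := mem_centralizer_iff.mp (IH _ hRlt R rfl (hRQ.trans hQP) g hgR hgc) c hcR
    have hcQ : c ∈ Q := hRQ hcR
    have h1 := eq_one_of_shift (P.isPGroup'.to_le hQP) hgc hcQ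
      (by rw [hc]; group : g * a * g⁻¹ = a * c) (by rw [← hfix, mul_inv_cancel_right])
    calc a * g = a * (a⁻¹ * (g * a * g⁻¹)) * g := by rw [← hc, h1, mul_one]
      _ = g * a := by group

omit hp [Finite G] in
/-- A finite group is not the union of the conjugates of a proper subgroup. -/
theorem eq_top_of_conj_cover [Finite G] (H : Subgroup G) (h : ∀ g : G, ∃ a : G, a * g * a⁻¹ ∈ H) :
    H = ⊤ := by
  classical
  cases nonempty_fintype G
  haveI : Fintype (G ⧸ H) := Fintype.ofFinite _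
  have hsum := MulAction.sum_card_fixedBy_eq_card_orbits_mul_card_group G (G ⧸ H)
  have horb : Fintype.card (MulAction.orbitRel.Quotient G (G ⧸ H)) = 1 := by
    refine Fintype.card_eq_one_iff.mpr ⟨⟦((1 : G) : G ⧸ H)⟧, fun q => ?_⟩
    induction q using Quotient.inductionOn with
    | h y => exact Quotient.sound (MulAction.exists_smul_eq G ((1 : G) : G ⧸ H) y)
  rw [horb, one_mul] at hsum
  have hpos : ∀ g : G, 1 ≤ Fintype.card (MulAction.fixedBy (G ⧸ H) g) := by
    intro g
    obtain ⟨a, ha⟩ := h g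
    refine Fintype.card_pos_iff.mpr ⟨⟨((a⁻¹ : G) : G ⧸ H), ?_⟩⟩
    change ((g * a⁻¹ : G) : G ⧸ H) = _
    rw [eq_comm, QuotientGroup.eq, inv_inv, ← mul_assoc]
    exact ha
  have h1 : Fintype.card (MulAction.fixedBy (G ⧸ H) (1 : G)) = 1 := by
    by_contra hne
    have hlt : ∑ _g : G, 1 < ∑ g : G, Fintype.card (MulAction.fixedBy (G ⧸ H) g) :=
      Finset.sum_lt_sum (fun g _ => hpos g)
        ⟨1, Finset.mem_univ _, lt_of_le_of_ne (hpos 1) (Ne.symm hne)⟩
    rw [hsum] at hlt
    simp at hlt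
  refine index_eq_one.mp ?_
  rw [index_eq_card, Nat.card_eq_fintype_card, ← h1]
  exact Fintype.card_congr (Equiv.subtypeUnivEquiv fun x => one_smul G x).symm

end Cfsg.Agent.Transfer
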