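import Cfsg.Agent.Transfer.BaerSuzuki
import Cfsg.Agent.Solv.Cores
import Cfsg.Agent.Transfer.Basic

/-!
Groups without real elements of odd order have normal Sylow 2-subgroups.
-/

set_option autoImplicit false

namespace Cfsg.Agent.RealOdd

open Subgroup

variable {G : Type*} [Group G] [Finite G]

/-- A coset of a normal `2`-subgroup `N` of odd prime order, real modulo `N`, lifts to a real
element. -/
theorem exists_real_lift (N : Subgroup G) [N.Normal] (hN : IsPGroup 2 N) {q : ℕ} (hq : q.Prime)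
    (hq2 : q ≠ 2) (h g : G) (hh : orderOf h = q) (hgh : g * h * g⁻¹ * h ∈ N) :
    ∃ c : G, c * h * c⁻¹ = h⁻¹ := by
  haveI := Fact.mk hq
  set K := N ⊔ zpowers h with hK
  have hhK : h ∈ K := mem_sup_right (mem_zpowers h)
  have hh' : g * h * g⁻¹ ∈ K := by
    have := K.mul_mem (mem_sup_left hgh) (K.inv_mem hhK)
    rwa [mul_inv_cancel_right] at this
  have hcard : ¬ q * q ∣ Nat.card K := by
    have h1 : Nat.card N * N.relIndex K = Nat.card K := by
      rw [← relIndex_bot_left, ← relIndex_bot_left]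
      exact relIndex_mul_relIndex _ _ _ bot_le le_sup_left
    obtain ⟨a, ha⟩ := IsPGroup.iff_card.mp hN
    rw [← h1, ha]
    intro hd
    have h2 := ((Nat.coprime_primes hq Nat.prime_two).mpr hq2).pow_right a
    have h3 : q * q ∣ N.relIndex K := (h2.mul_left h2).dvd_of_dvd_mul_left hd
    rw [hK, relIndex_sup_left] at h3
    have h4 := h3.trans ((relIndex_dvd_card N (zpowers h)).trans (dvd_of_eq
      ((Nat.card_zpowers h).trans hh)))
    have := Nat.le_of_dvd hq.pos h4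
    nlinarith [hq.two_le]
  have hsyl : ∀ u : K, orderOf (u : G) = q → ∃ S : Sylow q K, (S : Subgroup K) = zpowers u := by
    intro u hu
    have hc : Nat.card (zpowers u) = q := by rw [Nat.card_zpowers, ← orderOf_coe, hu]
    have hp : IsPGroup q (zpowers u) := IsPGroup.of_card (n := 1) (by rw [hc, pow_one])
    obtain ⟨S, hS⟩ := hp.exists_le_sylow
    refine ⟨S, (eq_of_le_of_card_ge hS ?_).symm⟩
    obtain ⟨e, he⟩ := IsPGroup.iff_card.mp S.isPGroup'
    rw [hc, he]
    rcases Nat.lt_or_ge e 2 with h2 | h2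
    · calc q ^ e ≤ q ^ 1 := Nat.pow_le_pow_right hq.pos (by omega)
        _ = q := pow_one q
    · exact absurd (((pow_two q).symm ▸ pow_dvd_pow q h2).trans
        (he ▸ card_subgroup_dvd_card (S : Subgroup K))) hcard
  obtain ⟨S, hS⟩ := hsyl ⟨h, hhK⟩ hh
  obtain ⟨T, hT⟩ := hsyl ⟨_, hh'⟩ ((MulEquiv.orderOf_eq (MulAut.conj g) h).trans hh)
  obtain ⟨k, hk⟩ := MulAction.exists_smul_eq K T S
  refine ⟨(k : G) * g, ?_⟩
  have hmem : k * ⟨_, hh'⟩ * k⁻¹ ∈ (S : Subgroup K) := by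
    rw [← hk]
    exact ⟨⟨_, hh'⟩, by rw [hT]; exact mem_zpowers _, by simp⟩
  rw [hS] at hmem
  obtain ⟨j, hj⟩ := mem_zpowers_iff.mp hmem
  have hj' : h ^ j = (k : G) * (g * h * g⁻¹) * (k : G)⁻¹ := by
    simpa using congrArg Subtype.val hj
  -- modulo `N` the group `K` is generated by `h`
  obtain ⟨n, hn, z, hz, hnz⟩ := mem_sup_of_normal_left.mp k.2
  obtain ⟨i, rfl⟩ := mem_zpowers_iff.mp hz
  have h1 : h ^ j * h ∈ N := by
    have hm : h ^ i * (g * h * g⁻¹ * h) * (h ^ i)⁻¹ ∈ N := Normal.conj_mem inferInstance _ hgh _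
    have hcm : h⁻¹ * n⁻¹ * h ∈ N := by
      simpa using Normal.conj_mem (H := N) inferInstance _ (inv_mem hn) h⁻¹
    have : h ^ j * h = n * (h ^ i * (g * h * g⁻¹ * h) * (h ^ i)⁻¹) * (h⁻¹ * n⁻¹ * h) := by
      rw [hj', ← hnz]; group
    rw [this]
    exact mul_mem (mul_mem hn hm) hcm
  have h2 : h ^ j * h = 1 := by
    obtain ⟨m, hm⟩ := IsPGroup.iff_orderOf.mp hN ⟨_, h1⟩
    rw [← orderOf_coe] at hm
    refine orderOf_eq_one_iff.mp (Nat.eq_one_of_dvd_coprimes
      (((Nat.coprime_primes Nat.prime_two hq).mpr hq2.symm).pow_left m) (dvd_of_eq hm) ?_)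
    rw [← hh]
    exact orderOf_dvd_of_mem_zpowers (mul_mem (zpow_mem (mem_zpowers h) j) (mem_zpowers h))
  rw [show (k : G) * g * h * ((k : G) * g)⁻¹ = (k : G) * (g * h * g⁻¹) * (k : G)⁻¹ by group, ← hj']
  exact eq_inv_of_mul_eq_one_left h2

/-- If no nontrivial element of odd order is conjugate to its inverse, the Sylow `2`-subgroups are
normal. -/
theorem sylow_normal_of_no_real (P : Sylow 2 G)
    (h : ∀ x : G, x ≠ 1 → Odd (orderOf x) → ∀ g : G, g * x * g⁻¹ ≠ x⁻¹) :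
    (P : Subgroup G).Normal := by
  haveI : Fact (Nat.Prime 2) := ⟨Nat.prime_two⟩
  obtain ⟨hN, hN2⟩ := Cfsg.Agent.Solv.pCore_mem (G := G) 2
  haveI := hN
  set N := Cfsg.pCore 2 G with hNdef
  have hno : ∀ u : G ⧸ N, u ≠ 1 → Odd (orderOf u) → ∀ v : G ⧸ N, v * u * v⁻¹ ≠ u⁻¹ := by
    intro u hu hodd v huv
    obtain ⟨q, hq, hqd⟩ := Nat.exists_prime_and_dvd (fun e => hu (orderOf_eq_one_iff.mp e))
    have hq2 : q ≠ 2 := fun e =>
      (Nat.not_even_iff_odd.mpr hodd) (even_iff_two_dvd.mpr (e ▸ hqd))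
    obtain ⟨u₁, hu₁⟩ : ∃ u₁, u₁ = u ^ (orderOf u / q) := ⟨_, rfl⟩
    have hou : orderOf u₁ = q := hu₁ ▸ orderOf_pow_orderOf_div (orderOf_pos u).ne' hqd
    have hreal : v * u₁ * v⁻¹ = u₁⁻¹ := by rw [hu₁, ← conj_pow, huv, inv_pow]
    obtain ⟨a, rfl⟩ := QuotientGroup.mk_surjective u₁
    obtain ⟨g, rfl⟩ := QuotientGroup.mk_surjective v
    have haq : a ^ q ∈ N := by
      rw [← QuotientGroup.eq_one_iff, QuotientGroup.mk_pow, ← hou, pow_orderOf_eq_one]
    obtain ⟨e, he⟩ := IsPGroup.iff_card.mp hN2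
    obtain ⟨c, hc⟩ : ∃ c, c = a ^ 2 ^ e := ⟨_, rfl⟩
    have hcq : c ^ q = 1 := by
      have h1 : (⟨a ^ q, haq⟩ : N) ^ 2 ^ e = 1 := by rw [← he]; exact pow_card_eq_one'
      rw [hc, ← pow_mul, mul_comm, pow_mul]
      exact congrArg Subtype.val h1
    have hc1 : c ≠ 1 := by
      intro e1
      rw [hc] at e1
      have := orderOf_dvd_of_pow_eq_one (x := (a : G ⧸ N)) (n := 2 ^ e)
        (by rw [← QuotientGroup.mk_pow, e1, QuotientGroup.mk_one])
      rw [hou] at this
      exact hq2 ((Nat.prime_dvd_prime_iff_eq hq Nat.prime_two).mp (hq.dvd_of_dvd_pow this))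
    haveI := Fact.mk hq
    have hoc : orderOf c = q := orderOf_eq_prime hcq hc1
    have hmem : g * c * g⁻¹ * c ∈ N := by
      rw [← QuotientGroup.eq_one_iff, hc, QuotientGroup.mk_mul, QuotientGroup.mk_mul,
        QuotientGroup.mk_mul, QuotientGroup.mk_inv, QuotientGroup.mk_pow, ← conj_pow, hreal,
        inv_pow, inv_mul_cancel]
    obtain ⟨d, hd⟩ := exists_real_lift N hN2 hq hq2 c g hoc hmem
    exact h c hc1 (hoc.symm ▸ hq.odd_of_ne_two hq2) d hd
  have hodd : ¬ 2 ∣ N.index := by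
    intro hd
    obtain ⟨t, ht⟩ := exists_prime_orderOf_dvd_card' (G := G ⧸ N) 2 hd
    obtain ⟨w, hw, hwodd, hinv⟩ := Cfsg.Agent.BaerSuzuki.exists_inverted t
      (by rw [← ht]; exact pow_orderOf_eq_one t) (fun M hM hM2 htM => by
        have hpre : IsPGroup 2 (M.comap (QuotientGroup.mk' N)) :=
          hM2.comap_of_ker_isPGroup _ (by rw [QuotientGroup.ker_mk']; exact hN2)
        have hle := Cfsg.Agent.Solv.le_pCore (hM.comap _) hpre
        obtain ⟨a, rfl⟩ := QuotientGroup.mk_surjective t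
        have ha : a ∈ N := hle htM
        rw [(QuotientGroup.eq_one_iff a).mpr ha, orderOf_one] at ht
        norm_num at ht)
    exact hno w hw hwodd t hinv
  obtain ⟨R, hR⟩ := hN2.exists_le_sylow
  have heq : (R : Subgroup G) = N := by
    refine (eq_of_le_of_card_ge hR (le_of_eq ?_)).symm
    rw [R.card_eq_multiplicity, ← N.card_mul_index, Nat.factorization_mul Nat.card_pos.ne'
      N.index_ne_zero_of_finite, Finsupp.add_apply, Nat.factorization_eq_zero_of_not_dvd hodd,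
      add_zero]
    obtain ⟨e, he⟩ := IsPGroup.iff_card.mp hN2
    rw [he, Nat.prime_two.factorization_pow]
    simp
  obtain ⟨g, hg⟩ := MulAction.exists_smul_eq G R P
  have : (P : Subgroup G) = N := by
    rw [← hg]
    ext u
    constructor
    · rintro ⟨r, hr, rfl⟩
      rw [heq] at hr
      simpa using Normal.conj_mem (H := N) inferInstance _ hr g
    · intro hu
      exact ⟨g⁻¹ * u * g, heq ▸ by
        simpa using Normal.conj_mem (H := N) inferInstance _ hu g⁻¹, by simp [mul_assoc]⟩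
  rw [this]; infer_instance

end Cfsg.Agent.RealOdd
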