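import Cfsg.Agent.Transfer.OmegaFour

/-!
Groups in which every element of order prime to `p` has class size prime to `p`.
-/

set_option autoImplicit false

namespace Cfsg.Agent.Transfer

open Subgroup

variable {G : Type*} [Group G] [Finite G] {p : ℕ} [hp : Fact p.Prime]

/-- The `p`-part and the `p'`-part of an element as powers of it. -/
theorem exists_parts (g : G) : ∃ a b : G, a ∈ zpowers g ∧ b ∈ zpowers g ∧ g = a * b ∧
    (∃ k, a ^ p ^ k = 1) ∧ Nat.Coprime (orderOf b) p := by
  obtain ⟨k, hk⟩ := exists_pow_coprime (p := p) g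
  set m := orderOf (g ^ p ^ k) with hm
  have hco : Nat.Coprime (p ^ k) m := Nat.Coprime.pow_left k hk.symm
  have hg := Nat.gcd_eq_gcd_ab (p ^ k) m
  rw [hco.gcd_eq_one] at hg
  refine ⟨(g ^ m) ^ Nat.gcdB (p ^ k) m, (g ^ p ^ k) ^ Nat.gcdA (p ^ k) m,
    zpow_mem (pow_mem (mem_zpowers g) m) _, zpow_mem (pow_mem (mem_zpowers g) _) _, ?_,
    ⟨k, ?_⟩, ?_⟩
  · rw [← zpow_natCast g m, ← zpow_natCast g (p ^ k), ← zpow_mul, ← zpow_mul, ← zpow_add,
      add_comm, ← hg]
    simp
  · have h1 : (g ^ m) ^ p ^ k = 1 := by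
      rw [← pow_mul, mul_comm, pow_mul, hm, pow_orderOf_eq_one]
    rw [← zpow_natCast, ← zpow_mul, mul_comm, zpow_mul, zpow_natCast, h1, one_zpow]
  · refine Nat.Coprime.coprime_dvd_left (orderOf_dvd_of_pow_eq_one ?_) hk
    rw [← zpow_natCast, ← zpow_mul, mul_comm, zpow_mul, zpow_natCast, hm, pow_orderOf_eq_one,
      one_zpow]

/-- If every `p'`-element centralizes a Sylow `p`-subgroup then `P` is normal and `G = P C(P)`. -/
theorem sylow_normal_of_regular
    (h : ∀ x : G, Nat.Coprime (orderOf x) p → ¬ p ∣ (centralizer ({x} : Set G)).index)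
    (P : Sylow p G) : (P : Subgroup G).Normal ∧
      (P : Subgroup G) ⊔ centralizer ((P : Subgroup G) : Set G) = ⊤ := by
  set C := centralizer ((P : Subgroup G) : Set G) with hC
  have htop : (P : Subgroup G) ⊔ C = ⊤ := by
    refine eq_top_of_conj_cover _ fun g => ?_
    obtain ⟨a, b, ha, hb, hab, ⟨k, hak⟩, hbc⟩ := exists_parts (p := p) g
    have hcomm : a * b = b * a := by
      obtain ⟨i, rfl⟩ := mem_zpowers_iff.mp ha
      obtain ⟨j, rfl⟩ := mem_zpowers_iff.mp hb
      exact (Commute.zpow_zpow_self g i j)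
    set K := centralizer ({b} : Set G) with hK
    have hpa : IsPGroup p (zpowers (⟨a, mem_centralizer_singleton_iff.mpr hcomm⟩ : K)) := by
      obtain ⟨i, -, hi⟩ := (Nat.dvd_prime_pow hp.out).mp (orderOf_dvd_of_pow_eq_one hak)
      exact IsPGroup.of_card (by rw [Nat.card_zpowers, ← orderOf_coe]; exact hi)
    obtain ⟨R, hR⟩ := hpa.exists_le_sylow
    have hRp : IsPGroup p ((R : Subgroup K).map K.subtype) := R.isPGroup'.map _
    obtain ⟨R', hR'⟩ := hRp.exists_le_sylow
    have hcard : Nat.card ((R : Subgroup K).map K.subtype) = Nat.card R' := by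
      rw [← Nat.card_congr ((R : Subgroup K).equivMapOfInjective _ K.subtype_injective).toEquiv,
        R.card_eq_multiplicity, R'.card_eq_multiplicity, ← K.card_mul_index,
        Nat.factorization_mul Nat.card_pos.ne' K.index_ne_zero_of_finite, Finsupp.add_apply,
        Nat.factorization_eq_zero_of_not_dvd (h b hbc), add_zero]
    have heq : (R : Subgroup K).map K.subtype = R' := eq_of_le_of_card_ge hR' hcard.ge
    obtain ⟨c, hc⟩ := MulAction.exists_smul_eq G R' P
    refine ⟨c, ?_⟩
    have haR : a ∈ (R' : Subgroup G) := hR' ⟨_, hR (mem_zpowers _), rfl⟩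
    have h1 : c * a * c⁻¹ ∈ (P : Subgroup G) := by
      rw [← hc]; exact ⟨a, haR, by simp⟩
    have h2 : c * b * c⁻¹ ∈ C := by
      refine mem_centralizer_iff.mpr fun y hy => ?_
      rw [← hc] at hy
      obtain ⟨r, hr, rfl⟩ := hy
      have hrK : r ∈ K := by
        have : r ∈ (R : Subgroup K).map K.subtype := heq ▸ hr
        exact map_subtype_le _ this
      simp only [MulDistribMulAction.toMonoidEnd_apply, MulDistribMulAction.toMonoidHom_apply,
        MulAut.smul_def, MulAut.conj_apply]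
      calc c * r * c⁻¹ * (c * b * c⁻¹) = c * (r * b) * c⁻¹ := by group
        _ = c * b * c⁻¹ * (c * r * c⁻¹) := by
          rw [mem_centralizer_singleton_iff.mp hrK]; group
    rw [show c * g * c⁻¹ = (c * a * c⁻¹) * (c * b * c⁻¹) by rw [hab]; group]
    exact mul_mem_sup h1 h2
  refine ⟨?_, htop⟩
  rw [← normalizer_eq_top_iff, eq_top_iff, ← htop]
  exact sup_le le_normalizer (centralizer_le_normalizer _)

/-- If `G = P C(P)` for a normal Sylow subgroup `P`, there is a normal `p`-complement. -/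
theorem hasNPC_of_regular (P : Sylow p G) [(P : Subgroup G).Normal]
    (hC : (P : Subgroup G) ⊔ centralizer ((P : Subgroup G) : Set G) = ⊤) :
    HasNormalPComplement p G := by
  set C := centralizer ((P : Subgroup G) : Set G) with hCdef
  obtain ⟨n, hn⟩ : ∃ n, C.index = p ^ n := by
    have h1 : C.index ∣ Nat.card P := by
      rw [← relIndex_top_right, ← hC, sup_comm, relIndex_sup_left]
      exact relIndex_dvd_card C P
    obtain ⟨n, hn⟩ := IsPGroup.iff_card.mp P.isPGroup'
    obtain ⟨i, -, hi⟩ := (Nat.dvd_prime_pow hp.out).mp (hn ▸ h1)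
    exact ⟨i, hi⟩
  refine hasNPC_of_frobCond fun Q hQ g _ hg => ?_
  have hgC : g ∈ C := pResidual_le_of_index inferInstance ⟨n, hn⟩ (subset_closure hg)
  obtain ⟨R, hR⟩ := hQ.exists_le_sylow
  haveI := P.unique_of_normal inferInstance
  rw [Subsingleton.elim R P] at hR
  exact centralizer_le hR hgC

end Cfsg.Agent.Transfer
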